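import Mathlib.RingTheory.Flat.EquationalCriterion
import Mathlib.Algebra.Category.ModuleCat.Colimits
import Mathlib.Algebra.Category.ModuleCat.FilteredColimits
import Mathlib.CategoryTheory.Filtered.Final
import Mathlib.CategoryTheory.Presentable.Directed
import Mathlib.CategoryTheory.Limits.ConcreteCategory.Basic

/-!
# Lazard's theorem: a module is flat iff it is a directed colimit of finite free modules
-/

set_option autoImplicit false
set_option linter.style.haveILetI false

universe u

open CategoryTheory Limits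

namespace Groth.Agent.Lazard

variable (R M : Type u) [CommRing R] [AddCommGroup M] [Module R M]

/-- Finite families of elements of `M`. -/
structure Obj : Type u where
  n : ℕ
  f : (Fin n → R) →ₗ[R] M

variable {R M}

/-- Linear maps over `M`. -/
structure Hom (X Y : Obj R M) : Type u where
  g : (Fin X.n → R) →ₗ[R] (Fin Y.n → R)
  w : Y.f.comp g = X.f

instance : SmallCategory (Obj R M) where
  Hom := Hom
  id X := ⟨LinearMap.id, LinearMap.comp_id _⟩
  comp a b := ⟨b.g.comp a.g, by rw [← LinearMap.comp_assoc, b.w, a.w]⟩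
  id_comp a := rfl
  comp_id a := rfl
  assoc a b c := rfl

theorem hom_ext {X Y : Obj R M} {a b : X ⟶ Y} (h : a.g = b.g) : a = b := by
  cases a; cases b; cases h; rfl

variable (R M)

/-- The diagram of finite free modules. -/
noncomputable def diag : Obj R M ⥤ ModuleCat.{u} R where
  obj X := ModuleCat.of R (Fin X.n → R)
  map a := ModuleCat.ofHom a.g
  map_id _ := rfl
  map_comp _ _ := rfl

/-- The cocone with point `M`. -/
noncomputable def cocone : Cocone (diag R M) where
  pt := ModuleCat.of R M
  ι :=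
    { app := fun X => ModuleCat.ofHom X.f
      naturality := fun X Y a => by
        refine ModuleCat.hom_ext ?_
        exact a.w }

variable {R M}

/-- The one element family. -/
noncomputable def pt (m : M) : Obj R M := ⟨1, (LinearMap.toSpanSingleton R M m).comp (LinearMap.proj 0)⟩

/-- A leg of a cocone. -/
noncomputable def leg (s : Cocone (diag R M)) (X : Obj R M) : (Fin X.n → R) →ₗ[R] s.pt := (s.ι.app X).hom

theorem leg_eq (s : Cocone (diag R M)) (X : Obj R M) (v : Fin X.n → R) :
    leg s X v = leg s (pt (X.f v)) (fun _ => 1) := by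
  let a : pt (X.f v) ⟶ X := ⟨(LinearMap.toSpanSingleton R _ v).comp (LinearMap.proj (R := R) (φ := fun _ : Fin 1 => R) 0), by
    refine LinearMap.ext fun c => ?_
    exact map_smul X.f _ v⟩
  have h := congrArg (fun φ : (diag R M).obj (pt (X.f v)) ⟶ s.pt => φ.hom (fun _ : Fin 1 => (1 : R))) (s.w a)
  refine Eq.trans ?_ h
  show leg s X v = leg s X ((1 : R) • v)
  rw [one_smul]

/-- The map out of `M`. -/
noncomputable def desc (s : Cocone (diag R M)) : M →ₗ[R] s.pt where
  toFun m := leg s (pt m) (fun _ => 1)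
  map_add' m m' := by
    let X : Obj R M := ⟨2, (LinearMap.toSpanSingleton R M m).comp (LinearMap.proj 0) +
      (LinearMap.toSpanSingleton R M m').comp (LinearMap.proj 1)⟩
    have hX : ∀ v : Fin 2 → R, X.f v = v 0 • m + v 1 • m' := fun v => rfl
    have h1 := leg_eq s X (Pi.single 0 1)
    have h2 := leg_eq s X (Pi.single 1 1)
    have h3 := leg_eq s X (Pi.single 0 1 + Pi.single 1 1)
    have e1 : X.f (Pi.single 0 1) = m := by rw [hX]; simp
    have e2 : X.f (Pi.single 1 1) = m' := by rw [hX]; simp
    rw [e1] at h1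
    rw [e2] at h2
    rw [map_add X.f, e1, e2, map_add] at h3
    rw [← h3, h1, h2]
  map_smul' c m := by
    have h := leg_eq s (pt (R := R) m) (fun _ => c)
    have e : (pt (R := R) m).f (fun _ => c) = c • m := rfl
    rw [e] at h
    rw [← h, RingHom.id_apply, ← map_smul]
    congr 1
    funext i
    simp

theorem desc_apply (s : Cocone (diag R M)) (X : Obj R M) (v : Fin X.n → R) :
    desc s (X.f v) = leg s X v := (leg_eq s X v).symm

variable (R M)

/-- `M` is the colimit. -/
noncomputable def isColimit : IsColimit (cocone R M) where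
  desc s := ModuleCat.ofHom (desc s)
  fac s X := ModuleCat.hom_ext (LinearMap.ext fun v => desc_apply s X v)
  uniq s φ hφ := by
    refine ModuleCat.hom_ext (LinearMap.ext fun m => ?_)
    have h := congrArg (fun ψ : (diag R M).obj (pt m) ⟶ s.pt => ψ.hom (fun _ : Fin 1 => (1 : R))) (hφ (pt m))
    refine Eq.trans ?_ h
    show φ.hom m = φ.hom ((1 : R) • m)
    rw [one_smul]

theorem isFiltered [Module.Flat R M] : IsFiltered (Obj R M) where
  nonempty := ⟨⟨0, 0⟩⟩
  cocone_objs X Y := by
    let Z : Obj R M := ⟨X.n + Y.n,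
      X.f.comp (LinearMap.funLeft R R (Fin.castAdd Y.n)) + Y.f.comp (LinearMap.funLeft R R (Fin.natAdd X.n))⟩
    let e : ((Fin X.n → R) × (Fin Y.n → R)) →ₗ[R] (Fin (X.n + Y.n) → R) :=
      { toFun := fun p => Fin.append p.1 p.2
        map_add' := fun p q => funext fun i => by refine Fin.addCases (fun a => ?_) (fun a => ?_) i <;> simp
        map_smul' := fun c p => funext fun i => by refine Fin.addCases (fun a => ?_) (fun a => ?_) i <;> simp }
    refine ⟨Z, ⟨e.comp (LinearMap.inl R _ _), LinearMap.ext fun v => ?_⟩,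
      ⟨e.comp (LinearMap.inr R _ _), LinearMap.ext fun v => ?_⟩, trivial⟩
    · show X.f (fun i => Fin.append v 0 (Fin.castAdd Y.n i)) + Y.f (fun i => Fin.append v 0 (Fin.natAdd X.n i)) = X.f v
      simp only [Fin.append_left, Fin.append_right, Pi.zero_apply]
      rw [show (fun _ : Fin Y.n => (0 : R)) = 0 from rfl, map_zero, add_zero]
    · show X.f (fun i => Fin.append 0 v (Fin.castAdd Y.n i)) + Y.f (fun i => Fin.append 0 v (Fin.natAdd X.n i)) = Y.f v
      simp only [Fin.append_left, Fin.append_right, Pi.zero_apply]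
      rw [show (fun _ : Fin X.n => (0 : R)) = 0 from rfl, map_zero, zero_add]
  cocone_maps X Y a b := by
    have h0 : Y.f ∘ₗ (a.g - b.g) = 0 := by rw [LinearMap.comp_sub, a.w, b.w, sub_self]
    obtain ⟨k, c, y, hyc, hc⟩ := Module.Flat.exists_factorization_of_comp_eq_zero_of_free h0
    let e := Finsupp.linearEquivFunOnFinite R R (Fin k)
    refine ⟨⟨k, y.comp e.symm.toLinearMap⟩, ⟨e.toLinearMap.comp c, ?_⟩, hom_ext ?_⟩
    · refine LinearMap.ext fun v => ?_
      show y (e.symm (e (c v))) = Y.f v
      rw [LinearEquiv.symm_apply_apply, hyc]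
      rfl
    · show (e.toLinearMap.comp c).comp a.g = (e.toLinearMap.comp c).comp b.g
      rw [LinearMap.comp_sub] at hc
      rw [LinearMap.comp_assoc, LinearMap.comp_assoc, (sub_eq_zero (a := c ∘ₗ a.g) (b := c ∘ₗ b.g)).mp hc]

theorem flat_of_colimit {J : Type u} [Preorder J] [IsDirectedOrder J] [Nonempty J]
    (F : J ⥤ ModuleCat.{u} R) (hF : ∀ j, Module.Flat R (F.obj j))
    (e : Limits.colimit F ≅ ModuleCat.of R M) : Module.Flat R M := by
  classical
  let c : ∀ j, F.obj j →ₗ[R] M := fun j => (colimit.ι F j ≫ e.hom).hom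
  have hc : ∀ {i j : J} (h : i ≤ j) (x : F.obj i), c j ((F.map (homOfLE h)).hom x) = c i x := by
    intro i j h x
    exact congrArg (fun φ => (φ ≫ e.hom).hom x) (colimit.w F (homOfLE h))
  have hex : ∀ m : M, ∃ j x, c j x = m := by
    intro m
    obtain ⟨j, x, hx⟩ := Concrete.colimit_exists_rep F (e.inv.hom m)
    refine ⟨j, x, ?_⟩
    show e.hom.hom ((colimit.ι F j).hom x) = m
    rw [show (colimit.ι F j).hom x = e.inv.hom m from hx]
    exact congrArg (fun φ => φ.hom m) e.inv_hom_id
  have hzero : ∀ j (x : F.obj j), c j x = 0 → ∃ k, ∃ h : j ≤ k, (F.map (homOfLE h)).hom x = 0 := by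
    intro j x hx
    have h0 : (colimit.ι F j).hom x = (colimit.ι F j).hom 0 := by
      rw [map_zero]
      have := congrArg e.inv.hom hx
      rw [map_zero] at this
      refine Eq.trans ?_ this
      exact (congrArg (fun φ => φ.hom ((colimit.ι F j).hom x)) e.hom_inv_id).symm
    obtain ⟨k, f, g, hfg⟩ := Concrete.colimit_exists_of_rep_eq F x 0 h0
    refine ⟨k, leOfHom f, ?_⟩
    rw [show homOfLE (leOfHom f) = f from Subsingleton.elim _ _]
    exact hfg.trans (map_zero (F.map g).hom)
  rw [Module.Flat.iff_forall_isTrivialRelation]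
  intro n a x hx
  choose I Y hY using fun i => hex (x i)
  obtain ⟨j₁, hj₁⟩ := Finset.exists_le (insert (Classical.arbitrary J) (Finset.univ.image I))
  have hI : ∀ i, I i ≤ j₁ := fun i => hj₁ _ (Finset.mem_insert_of_mem (Finset.mem_image_of_mem _ (Finset.mem_univ i)))
  let y₁ : Fin n → F.obj j₁ := fun i => (F.map (homOfLE (hI i))).hom (Y i)
  have hy₁ : ∀ i, c j₁ (y₁ i) = x i := fun i => (hc (hI i) (Y i)).trans (hY i)
  have h1 : c j₁ (∑ i, a i • y₁ i) = 0 := by
    rw [map_sum, ← hx]
    exact Finset.sum_congr rfl fun i _ => by rw [map_smul, hy₁]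
  obtain ⟨j, hj, hz⟩ := hzero _ _ h1
  rw [map_sum] at hz
  simp only [map_smul] at hz
  haveI := hF j
  obtain ⟨κ, b, z, hz1, hz2⟩ := Module.Flat.isTrivialRelation_of_sum_smul_eq_zero hz
  refine ⟨κ, b, fun q => c j (z q), fun i => ?_, hz2⟩
  rw [← hy₁ i, ← hc hj]
  refine ((congrArg (c j) (hz1 i)).trans (map_sum _ _ _)).trans ?_
  exact Finset.sum_congr rfl fun q _ => map_smul _ _ _

end Groth.Agent.Lazard
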